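import Mathlib
import Cfsg.Agent.H93.CI.Index

/-!
A simple group generated by elements satisfying the relators of a coset table over a cyclic subgroup
embeds in every group in which nontrivial elements satisfy them too.
-/

set_option autoImplicit false

namespace H93
namespace ONSub

open CosetI

variable {D : Data} {G : Type*} [Group G] {gen : ℕ → G}

theorem map_ev {G' : Type*} [Group G'] (φ : G →* G') (f : ℕ → G) :
    ∀ w : List ℕ, φ (ev f w) = ev (fun k => φ (f k)) w
  | [] => map_one φ
  | g :: w => by rw [ev, ev, map_mul, map_ev φ f w]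

theorem ev_subst (sub : ℕ → List ℕ) (f : ℕ → G) :
    ∀ w : List ℕ, ev (fun k => ev f (sub k)) w = ev f (w.flatMap sub)
  | [] => rfl
  | g :: w => by rw [List.flatMap_cons, ev_append, ev, ev_subst sub f w]

/-- the group generated by the letters has order at most the number of nodes times that of `L` -/
theorem card_le_of_table (ht : Tables D) (hinv : ∀ g < D.ng, gen (D.iv g) * gen g = 1)
    (hgen : Subgroup.closure (gen '' {g | g < D.ng}) = ⊤)
    (hrel : ∀ w ∈ D.words.take D.nrel, ev gen w = 1) (L : Subgroup G)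
    (hsub : ∀ w ∈ D.words.drop D.nrel, ev gen w ∈ L) :
    Nat.card G ≤ D.n * Nat.card L := by
  have hlet := ht.mem_letters
  have hyp : Data.Hyp gen ((1 : G) : G ⧸ L) D := by
    refine ⟨ht.pos, hinv, fun g hg => (ht.closed hg ht.pos).2.2.1, ?_, ?_, hlet,
      fun g hg c hc => (ht.closed hg hc).1, ht.edges⟩
    · intro r w hw hr x
      rw [hrel w ((mem_take_or_drop hw).1 hr), one_smul]
    · intro r w hw
      rcases (mem_take_or_drop (k := D.nrel) hw).2 with h | h
      · rw [hrel w h, one_smul]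
      · show ((ev gen w * 1 : G) : G ⧸ L) = ((1 : G) : G ⧸ L)
        rw [QuotientGroup.eq, mul_one, mul_one]
        exact inv_mem (hsub w h)
  have hsurj : Function.Surjective (fun c : Fin D.n => D.node gen ((1 : G) : G ⧸ L) c) := by
    intro y
    induction y using QuotientGroup.induction_on with
    | _ a =>
      obtain ⟨c, hc, e⟩ := Data.node_surj hyp hgen a
      exact ⟨⟨c, hc⟩, e.trans (congrArg (fun z : G => (z : G ⧸ L)) (mul_one a))⟩
  rw [← L.index_mul_card]
  refine Nat.mul_le_mul ?_ le_rfl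
  exact le_of_le_of_eq (Nat.card_le_card_of_surjective _ hsurj) (Nat.card_fin _)

theorem exists_sub_iso {A B : Type*} [Group A] [Group B] [Finite A] [Finite B] [IsSimpleGroup A]
    (fA : ℕ → A) (fB : ℕ → B) (ht : Tables D) (m : ℕ) (hm : 0 < m)
    (hinv : ∀ g < D.ng, fA (D.iv g) * fA g = 1 ∧ fB (D.iv g) * fB g = 1)
    (hrel : ∀ w ∈ D.words.take D.nrel, ev fA w = 1 ∧ ev fB w = 1)
    {u : List ℕ} (hdrop : D.words.drop D.nrel = [u])
    (hu : ev fA u ^ m = 1 ∧ ev fB u ^ m = 1)
    (hcard : D.n * m = Nat.card A) (hgenA : Subgroup.closure (fA '' {g | g < D.ng}) = ⊤)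
    {g₀ : ℕ} (hg₀ : g₀ < D.ng) (hne : fB g₀ ≠ 1) :
    ∃ K : Subgroup B, Nonempty (A ≃* K) := by
  classical
  let f : ℕ → A × B := fun k => (fA k, fB k)
  let P : Subgroup (A × B) := Subgroup.closure (f '' {g | g < D.ng})
  let fP : ℕ → P := fun k =>
    if hk : k < D.ng then ⟨f k, Subgroup.subset_closure ⟨k, hk, rfl⟩⟩ else 1
  have hfP : ∀ k < D.ng, (fP k : A × B) = f k := fun k hk => by simp [fP, hk]
  have hev : ∀ w : List ℕ, (∀ g ∈ w, g < D.ng) → ((ev fP w : P) : A × B) = (ev fA w, ev fB w) := by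
    intro w
    induction w with
    | nil => intro _; rfl
    | cons g w ih =>
      intro hw
      simp only [ev, Subgroup.coe_mul, ih (fun a ha => hw a (by simp [ha])), hfP g (hw g (by simp))]
      rfl
  have hlet := ht.mem_letters
  have hudrop : u ∈ D.words.drop D.nrel := by rw [hdrop]; simp
  have hul : ∀ g ∈ u, g < D.ng := hlet u (List.mem_of_mem_drop hudrop)
  have hgenP : Subgroup.closure (fP '' {g | g < D.ng}) = ⊤ := by
    apply Subgroup.map_injective P.subtype_injective
    rw [MonoidHom.map_closure, ← MonoidHom.range_eq_map, Subgroup.range_subtype, Set.image_image]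
    refine congrArg Subgroup.closure (Set.ext fun x => ?_)
    constructor
    · rintro ⟨k, hk, rfl⟩; exact ⟨k, hk, (hfP k hk).symm⟩
    · rintro ⟨k, hk, rfl⟩; exact ⟨k, hk, hfP k hk⟩
  have hle : Nat.card P ≤ D.n * m := by
    refine (card_le_of_table ht ?_ hgenP ?_ (Subgroup.zpowers (ev fP u)) ?_).trans
      (Nat.mul_le_mul le_rfl ?_)
    · intro g hg
      refine Subtype.ext ?_
      rw [Subgroup.coe_mul, hfP g hg, hfP _ (ht.closed hg ht.pos).2.2.1]
      exact Prod.ext (hinv g hg).1 (hinv g hg).2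
    · intro w hw
      refine Subtype.ext ?_
      rw [hev w (hlet w (List.mem_of_mem_take hw)), (hrel w hw).1, (hrel w hw).2]
      rfl
    · intro w hw
      rw [hdrop, List.mem_singleton] at hw
      subst hw
      exact Subgroup.mem_zpowers _
    · rw [Nat.card_zpowers]
      refine orderOf_le_of_pow_eq_one hm (Subtype.ext ?_)
      rw [Subgroup.coe_pow, hev u hul]
      exact Prod.ext hu.1 hu.2
  let π : P →* A := (MonoidHom.fst A B).comp P.subtype
  have hsurj : Function.Surjective π := by
    rw [← MonoidHom.range_eq_top, eq_top_iff, ← hgenA, Subgroup.closure_le]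
    rintro _ ⟨k, hk, rfl⟩
    exact ⟨fP k, show (fP k : A × B).1 = fA k by rw [hfP k hk]⟩
  have hbij : Function.Bijective π :=
    (Nat.bijective_iff_surjective_and_card π).2
      ⟨hsurj, le_antisymm (hle.trans_eq hcard) (Nat.card_le_card_of_surjective π hsurj)⟩
  let e : P ≃* A := MulEquiv.ofBijective π hbij
  let φ : A →* B := ((MonoidHom.snd A B).comp P.subtype).comp e.symm.toMonoidHom
  have hφ : φ.ker = ⊥ := by
    refine (φ.normal_ker.eq_bot_or_eq_top).resolve_right fun htop => hne ?_
    have h1 : e (fP g₀) ∈ φ.ker := htop ▸ Subgroup.mem_top _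
    have h2 : ((e.symm (e (fP g₀)) : P) : A × B).2 = 1 := h1
    rwa [e.symm_apply_apply, hfP g₀ hg₀] at h2
  exact ⟨φ.range, ⟨MonoidHom.ofInjective ((MonoidHom.ker_eq_bot_iff φ).1 hφ)⟩⟩

/-- in a simple group a proper subgroup has index at least the prime divisors of the order -/
theorem eq_top_of_small_index {A : Type*} [Group A] [Finite A] [IsSimpleGroup A] {S : Subgroup A}
    {p : ℕ} (hp : p.Prime) (hpA : p ∣ Nat.card A) {d : ℕ} (hd : d ∣ Nat.card S)
    (hsmall : Nat.card A < p * d) : S = ⊤ := by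
  by_contra hne
  have hcore : S.normalCore = ⊥ := by
    refine (S.normalCore_normal.eq_bot_or_eq_top).resolve_right fun h => hne ?_
    exact eq_top_iff.2 (h.ge.trans S.normalCore_le)
  have hinj : Function.Injective (MulAction.toPermHom A (A ⧸ S)) := by
    rw [← MonoidHom.ker_eq_bot_iff, ← Subgroup.normalCore_eq_ker, hcore]
  have h1 : Nat.card A ∣ S.index.factorial := by
    have h := Subgroup.card_dvd_of_injective _ hinj
    rwa [Nat.card_perm] at h
  have h2 : p ≤ S.index := (Nat.Prime.dvd_factorial hp).1 (hpA.trans h1)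
  have h3 : p * d ≤ Nat.card A := by
    rw [← S.index_mul_card]
    exact Nat.mul_le_mul h2 (Nat.le_of_dvd Nat.card_pos hd)
  omega

/-- the order of a member divides the order of the subgroup -/
theorem dvd_card_of_mem {A : Type*} [Group A] {S : Subgroup A} {x : A} (hx : x ∈ S) {q k : ℕ}
    [Fact q.Prime] (h1 : ¬ x ^ q ^ k = 1) (h2 : x ^ q ^ (k + 1) = 1) :
    q ^ (k + 1) ∣ Nat.card S := by
  have h := orderOf_eq_prime_pow h1 h2
  rw [← h, ← Subgroup.orderOf_mk x hx]
  exact orderOf_dvd_natCard _

theorem ev_mem {A : Type*} [Group A] (f : ℕ → A) {n : ℕ} :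
    ∀ w : List ℕ, (∀ g ∈ w, g < n) → ev f w ∈ Subgroup.closure (f '' {g | g < n})
  | [], _ => one_mem _
  | g :: w, h => mul_mem (ev_mem f w fun a ha => h a (by simp [ha]))
      (Subgroup.subset_closure ⟨g, h g (by simp), rfl⟩)

end ONSub
end H93
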