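import Mathlib

/-!
Generated data for a subgroup of the presented O'Nan group.
-/

set_option autoImplicit false
set_option maxRecDepth 100000
set_option linter.all false
set_option Elab.async false

namespace H93
namespace ONSub
namespace J1

/-- the image of the second generator in the O'Nan group -/
def wordB : List ℕ := [5,1,7,7,2,5,3,2,7,5,3,4,3,2,0,4,0,5,1,0,2,3,4,3,5,6,2,3,5,2,6,6,1,5]

/-- and of its inverse -/
def wordBi : List ℕ := [5,1,7,7,2,5,3,2,7,5,3,4,3,2,0,1,5,0,4,0,2,3,4,3,5,6,2,3,5,2,6,6,1,5]

/-- the two generators as words in those of the model -/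
def wordP : List ℕ := [0,1,0,1,1,1,1,1,0,1,1,0,1,1,0,1,0,0,1,0,0,0,1,1,1,0,1,0,1,1,1,1,1,0,1,1,0,1,1,0,1,0,0,1,0,0,0,1,1,1,0,1,0,1,1,1,1,1,0,1,1,0,1,1,0,1,0,0,1,0,0,0,1,1,1,0,1,0,1,1,1,1,1,0,1,1,0,1,1,0,1,0,0,1,0,0,0,1,1,1,0,1,0,1,1,1,1,1,0,1,1,0,1,1,0,1,0,0,1,0,0,0,1,1,1]

def wordQ : List ℕ := [1,0,1,0,1,1,0,1,1,0,1,0,0,1,1,1,0,1,0,1,1,0,0,0,0,0,0,1,1,1,1,0,1,0,1,1,0,1,1,0,1,0,0,1,1,1,0,1,0,1,1,0,0,0,0,0,0,1,1,1]

def cP0 : ℕ := 305861666633475453686892628645743427000959959873554191293871252696209687422669266341305433039759399357144436776593841979155761874108954138144843313926047234622850923305649434631261019925009349041731607675647984655643994155108721281079930129846975973479466532877976938219016907500523701650148537471904055967279088304778650735246994363930237009395713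

def cQ : ℕ := 489378638173552111217942746936211698542143149061758097375277260291481652709702458684627762624302211126351973587590232701802453772489706045443825354949421426793033520665420679998338432652938411701274996422344527773807340182878066481659626978907215784867872512208342049945792933534831528040983026486883617067593991511976685420459472654159589654134792

def cQi : ℕ := 489378641819706744185254237462665164772393784228446114609098878707621710314824858322077802292733316864207862146357982389821068235468450828236179354015853381996224907616028726278583051000057768595186337574830924091601594661310614077450211185530058790782926894561641053471053744144676036457310081591867055800112005256336964634689897979418947599990792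

def ord3 : List ℕ := [2]

def ord5 : List ℕ := [2,1,0,2,1,2,0,1,1,0,1,0,2,0,1,0,2,1,0,0,1,2,1,0,2,1,2,0,1,1,0,1,0,2,0,1,0,2,1,0,0,1]

def ord7 : List ℕ := [1,0]

def ord11 : List ℕ := [2,0,1,2,0,0,1,2,0,1,2,1,0,0,2,2,0,1,2,2,1,1,1,0,2,1,2,1,1,0,1,1,0,2,2,2,1,1,2,0,2,0,1,0,2,2,2,2,0,1,0,1,1,2]

def ord19 : List ℕ := [1,1,0,1,0]

end J1
end ONSub
end H93
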