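import Mathlib
import Cfsg.Prelude.Def_Sporadic
import Cfsg.Agent.H97.J1Simple
import Cfsg.Agent.H93.CI.Fix
import Cfsg.Agent.H93.ONSub.Bound
import Cfsg.Agent.H93.ONSub.J1Table
import Cfsg.Agent.H93.ONSub.J1Words

/-!
The matrix group of order 175560 as generated by an involution and an element of order 3.
-/

set_option autoImplicit false
set_option maxRecDepth 100000

namespace H93
namespace ONSub
namespace J1

open CosetI

theorem edgeAll (g : ℕ) (h0 : data.edgesOK g 0 8360 = true) (h1 : data.edgesOK g 8360 8360 = true)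
    (h2 : data.edgesOK g 16720 8360 = true) (c : ℕ) (hc : c < data.n) : data.edgeOK g c = true := by
  have hc' : c < 25080 := hc
  rcases lt_or_ge c 8360 with h | h
  · exact data.edgesOK_spec h0 (Nat.zero_le _) (by omega)
  rcases lt_or_ge c 16720 with h' | h'
  · exact data.edgesOK_spec h1 h (by omega)
  · exact data.edgesOK_spec h2 h' (by omega)

theorem treeAll : treeOK data 0 data.n = true := by
  show treeOK data 0 (8360 + 8360 + 8360) = true
  exact allRange_glue (allRange_glue tree_0 tree_1) tree_2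

theorem tables : Tables data where
  pos := by show 0 < 25080; omega
  edges := by
    intro g hg c hc
    have hg3 : g < 3 := hg
    interval_cases g
    · exact edgeAll 0 edge0_0 edge0_1 edge0_2 c hc
    · exact edgeAll 1 edge1_0 edge1_1 edge1_2 c hc
    · exact edgeAll 2 edge2_0 edge2_1 edge2_2 c hc
  tree := treeAll
  letters := by decide +kernel
  subfix := by decide +kernel

/-- code of a value of a word -/
def codeEv (gc : ℕ → ℕ) : List ℕ → ℕ
  | [] => H97.J1.cOne
  | g :: w => H97.cm (codeEv gc w) (gc g)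

/-- the generators of the model -/
noncomputable def jgen : ℕ → ↥Cfsg.Spor.J1
  | 0 => H97.J1.genX
  | _ => H97.J1.genY

/-- their codes -/
def jc : ℕ → ℕ
  | 0 => H97.J1.cX
  | _ => H97.J1.cY

/-- the three letters -/
noncomputable def fA : ℕ → ↥Cfsg.Spor.J1
  | 0 => ev jgen wordP
  | 1 => ev jgen wordQ
  | _ => ev jgen (wordQ ++ wordQ)

/-- their codes -/
def gc : ℕ → ℕ
  | 0 => cP0
  | 1 => cQ
  | _ => cQi

theorem code_ev (f : ℕ → ↥Cfsg.Spor.J1) (c : ℕ → ℕ) (h : ∀ k, H97.J1.code (f k) = c k) :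
    ∀ w : List ℕ, H97.J1.code (ev f w) = codeEv c w
  | [] => H97.J1.code_one
  | g :: w => by rw [ev, H97.J1.code_mul, code_ev f c h w, h g]; rfl

theorem code_jgen : ∀ k, H97.J1.code (jgen k) = jc k
  | 0 => H97.J1.code_genX
  | _ + 1 => H97.J1.code_genY

theorem codes : codeEv jc wordP = cP0 ∧ codeEv jc wordQ = cQ ∧ codeEv jc (wordQ ++ wordQ) = cQi := by
  decide +kernel

theorem code_fA : ∀ k, H97.J1.code (fA k) = gc k
  | 0 => (code_ev jgen jc code_jgen _).trans codes.1
  | 1 => (code_ev jgen jc code_jgen _).trans codes.2.1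
  | _ + 2 => (code_ev jgen jc code_jgen _).trans codes.2.2

theorem eq_one {w : List ℕ} (h : codeEv gc w = H97.J1.cOne) : ev fA w = 1 :=
  H97.J1.code_inj (by rw [code_ev fA gc code_fA, h, H97.J1.code_one])

theorem ne_one {w : List ℕ} (h : ¬ codeEv gc w = H97.J1.cOne) : ¬ ev fA w = 1 := fun h1 =>
  h (by rw [← code_ev fA gc code_fA, h1, H97.J1.code_one])

theorem rels : ∀ w ∈ data.words.take data.nrel, codeEv gc w = H97.J1.cOne := by decide +kernel

theorem fA_inv : ∀ g < data.ng, fA (data.iv g) * fA g = 1 := by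
  intro g hg
  have hg3 : g < 3 := hg
  have h : ∀ g < 3, codeEv gc [g, data.iv g] = H97.J1.cOne := by decide +kernel
  have := eq_one (h g hg3)
  simpa [ev] using this

theorem sub_pow : ev fA [0, 1] ^ 7 = 1 := by
  rw [← ev_expand]
  exact eq_one (by decide +kernel)

theorem order_dvd (q : ℕ) [Fact q.Prime] (u : List ℕ) (hl : ∀ g ∈ u, g < 3)
    (h1 : ¬ codeEv gc u = H97.J1.cOne) (h2 : codeEv gc (expand (u, q)) = H97.J1.cOne) :
    q ∣ Nat.card (Subgroup.closure (fA '' {g | g < data.ng})) := by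
  have h := dvd_card_of_mem (q := q) (k := 0) (ev_mem fA u hl : ev fA u ∈ Subgroup.closure (fA '' {g | g < 3}))
    (by simpa using ne_one h1) (by rw [pow_one, ← ev_expand]; exact eq_one h2)
  rw [zero_add, pow_one] at h
  exact h

theorem generates : Subgroup.closure (fA '' {g | g < data.ng}) = ⊤ := by
  haveI := H97.J1.isSimpleGroup_J1
  haveI : Finite ↥Cfsg.Spor.J1 := Nat.finite_of_card_ne_zero (by rw [H97.J1.card_J1]; decide)
  haveI : Fact (Nat.Prime 3) := ⟨by norm_num⟩
  haveI : Fact (Nat.Prime 5) := ⟨by norm_num⟩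
  haveI : Fact (Nat.Prime 7) := ⟨by norm_num⟩
  haveI : Fact (Nat.Prime 11) := ⟨by norm_num⟩
  haveI : Fact (Nat.Prime 19) := ⟨by norm_num⟩
  have h3 := order_dvd 3 ord3 (by decide) (by decide +kernel) (by decide +kernel)
  have h5 := order_dvd 5 ord5 (by decide) (by decide +kernel) (by decide +kernel)
  have h7 := order_dvd 7 ord7 (by decide) (by decide +kernel) (by decide +kernel)
  have h11 := order_dvd 11 ord11 (by decide) (by decide +kernel) (by decide +kernel)
  have h19 := order_dvd 19 ord19 (by decide) (by decide +kernel) (by decide +kernel)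
  refine eq_top_of_small_index (p := 19) (by norm_num) ?_ (d := 3 * 5 * 7 * 11 * 19) ?_ ?_
  · rw [H97.J1.card_J1]; decide
  · refine Nat.Coprime.mul_dvd_of_dvd_of_dvd (by norm_num) ?_ h19
    refine Nat.Coprime.mul_dvd_of_dvd_of_dvd (by norm_num) ?_ h11
    refine Nat.Coprime.mul_dvd_of_dvd_of_dvd (by norm_num) ?_ h7
    exact Nat.Coprime.mul_dvd_of_dvd_of_dvd (by norm_num) h3 h5
  · rw [H97.J1.card_J1]; decide

/-- a group with a nontrivial solution of the relators has a subgroup isomorphic to the matrix group -/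
theorem embeds {B : Type*} [Group B] [Finite B] (fB : ℕ → B)
    (hinv : ∀ g < data.ng, fB (data.iv g) * fB g = 1)
    (hrel : ∀ w ∈ data.words.take data.nrel, ev fB w = 1) (hu : ev fB [0, 1] ^ 7 = 1)
    (hne : fB 0 ≠ 1) : ∃ K : Subgroup B, Cfsg.IsJ1 K := by
  haveI := H97.J1.isSimpleGroup_J1
  haveI : Finite ↥Cfsg.Spor.J1 := Nat.finite_of_card_ne_zero (by rw [H97.J1.card_J1]; decide)
  obtain ⟨K, ⟨e⟩⟩ := exists_sub_iso fA fB tables 7 (by decide) (fun g hg => ⟨fA_inv g hg, hinv g hg⟩)
    (fun w hw => ⟨eq_one (rels w hw), hrel w hw⟩) (u := [0, 1]) (by decide +kernel) ⟨sub_pow, hu⟩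
    (by rw [H97.J1.card_J1]; rfl) generates (g₀ := 0) (by show 0 < 3; omega) hne
  exact ⟨K, e.symm.isSimpleGroup, by rw [← Nat.card_congr e.toEquiv, H97.J1.card_J1]⟩

end J1
end ONSub
end H93
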