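import Mathlib

/-!
Generated data for a subgroup of the presented O'Nan group.
-/

set_option autoImplicit false
set_option maxRecDepth 100000
set_option linter.all false
set_option Elab.async false

namespace H93
namespace ONSub
namespace M11

/-- the image of the second generator in the O'Nan group -/
def wordB : List ℕ := [5,2,5,7,5,0,2,1,4,3,5,6,0,4,3,5,2,3,2,5,4,5,1,0,2,3,1,6,2,4,1,4,6,1,6,5,3,4,6,3,2,0,4,0,1,6,0,2,3,7,4,3,5,7,1,7,4,1,4,2,7,1,3,2,0,1,5,4,5,2,3,2,5,3,4,0,7,5,3,4,1,2,0,5,6,5,2,5]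

/-- and of its inverse -/
def wordBi : List ℕ := [5,2,5,7,5,0,2,1,4,3,5,6,0,4,3,5,2,3,2,5,4,5,1,0,2,3,1,6,2,4,1,4,6,1,6,5,3,4,6,3,2,0,7,1,0,4,0,2,3,7,4,3,5,7,1,7,4,1,4,2,7,1,3,2,0,1,5,4,5,2,3,2,5,3,4,0,7,5,3,4,1,2,0,5,6,5,2,5]

/-- the two generators as words in those of the model -/
def wordP : List ℕ := [0,1,0,2,1,1,2,0,1,2,2,2,2,1,0,1,2,2,0,0,2,0,1,0,2,1,1,2,0,1,2,2,2,2,1,0,1,2,2,0,0,2,0,1,0,2,1,1,2,0,1,2,2,2,2,1,0,1,2,2,0,0,2,0,1,0,2,1,1,2,0,1,2,2,2,2,1,0,1,2,2,0,0,2]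

def wordQ : List ℕ := [1,0,1,1,0,2,1,2,0,0,2,1,2,0,2,1,0,1,1,0,2,1,2,0,0,2,1,2,0,2]

def cP0 : ℕ := 969240118097008726526406917528625184

def cQ : ℕ := 235775983219204358424187138922024128

def cQi : ℕ := 595437257941022334203892577053257856

def ord3 : List ℕ := [0,2,2,0,2,2]

def ord5 : List ℕ := [0,2,1,2,0,1,1,0,1,1,2]

def ord8 : List ℕ := [1,1,2,0,1,0,2,2,0,1]

def ord11 : List ℕ := [2,0]

end M11
end ONSub
end H93
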