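import Mathlib
import Cfsg.Prelude.Def_Sporadic
import Cfsg.Prelude.Def_Spor_Mathieu
import Cfsg.Agent.H87.MathieuCert
import Cfsg.Agent.H36.M11Centralizer
import Cfsg.Agent.H93.ONSub.Bound
import Cfsg.Agent.H93.ONSub.M11Table
import Cfsg.Agent.H93.ONSub.M11Words

/-!
The Mathieu group of order 7920 as generated by an involution and an element of order 4.
-/

set_option autoImplicit false
set_option maxRecDepth 100000

namespace H93
namespace ONSub
namespace M11

open CosetI

theorem tables : Tables data where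
  pos := by show 0 < 720; omega
  edges := by
    intro g hg c hc
    have hg3 : g < 3 := hg
    have hc' : c < 0 + 720 := by have : c < 720 := hc; omega
    interval_cases g
    · exact data.edgesOK_spec edge0_0 (Nat.zero_le _) hc'
    · exact data.edgesOK_spec edge1_0 (Nat.zero_le _) hc'
    · exact data.edgesOK_spec edge2_0 (Nat.zero_le _) hc'
  tree := tree_0
  letters := by decide +kernel
  subfix := by decide +kernel

/-- encoded generators of the model -/
def mc : ℕ → ℕ
  | 0 => 920973093609236526337018300606199072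
  | 1 => 444164020417145972631842157052900384
  | _ => 890954976140709938678640932563453984

theorem mem_mc : ∀ k, H87.mem11 (mc k) = true
  | 0 => by decide +kernel
  | 1 => by decide +kernel
  | _ + 2 => show H87.mem11 890954976140709938678640932563453984 = true by decide +kernel

/-- code of a value of a word -/
def codeEv (gc : ℕ → ℕ) : List ℕ → ℕ
  | [] => H90.idN
  | g :: w => H90.compN (codeEv gc w) (gc g)

/-- the generators of the model -/
noncomputable def mgen (k : ℕ) : ↥Cfsg.Spor.M11 := Classical.choose (H87.exists_of_mem11 (mem_mc k))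

theorem repr_mgen (k : ℕ) : H90.Repr (mgen k).1 (mc k) :=
  Classical.choose_spec (H87.exists_of_mem11 (mem_mc k))

/-- the three letters -/
noncomputable def fA : ℕ → ↥Cfsg.Spor.M11
  | 0 => ev mgen wordP
  | 1 => ev mgen wordQ
  | _ => ev mgen (wordQ ++ wordQ ++ wordQ)

/-- their codes -/
def gc : ℕ → ℕ
  | 0 => cP0
  | 1 => cQ
  | _ => cQi

theorem repr_ev (f : ℕ → ↥Cfsg.Spor.M11) (c : ℕ → ℕ) (h : ∀ k, H90.Repr (f k).1 (c k)) :
    ∀ w : List ℕ, H90.Repr (ev f w).1 (codeEv c w)
  | [] => H90.repr_one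
  | g :: w => (repr_ev f c h w).mul (h g)

theorem codes : codeEv mc wordP = cP0 ∧ codeEv mc wordQ = cQ ∧
    codeEv mc (wordQ ++ wordQ ++ wordQ) = cQi := by
  decide +kernel

theorem repr_fA : ∀ k, H90.Repr (fA k).1 (gc k)
  | 0 => show H90.Repr (ev mgen wordP).1 cP0 from codes.1 ▸ repr_ev mgen mc repr_mgen _
  | 1 => show H90.Repr (ev mgen wordQ).1 cQ from codes.2.1 ▸ repr_ev mgen mc repr_mgen _
  | _ + 2 => show H90.Repr (ev mgen (wordQ ++ wordQ ++ wordQ)).1 cQi from
      codes.2.2 ▸ repr_ev mgen mc repr_mgen _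

theorem eq_one {w : List ℕ} (h : codeEv gc w = H90.idN) : ev fA w = 1 := by
  have := repr_ev fA gc repr_fA w
  rw [h] at this
  exact Subtype.ext (this.unique H90.repr_one)

/-- list of images of a code -/
def key (p : ℕ) : List ℕ := (List.range 24).map (H90.img p)

theorem ne_one {w : List ℕ} (h : ¬ key (codeEv gc w) = key H90.idN) : ¬ ev fA w = 1 := by
  intro h1
  apply h
  have h2 := repr_ev fA gc repr_fA w
  rw [h1] at h2
  refine List.map_congr_left fun i hi => ?_
  exact (h2 ⟨i, List.mem_range.1 hi⟩).symm.trans (H90.repr_one ⟨i, List.mem_range.1 hi⟩)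

theorem rels : ∀ w ∈ data.words.take data.nrel, codeEv gc w = H90.idN := by decide +kernel

theorem fA_inv : ∀ g < data.ng, fA (data.iv g) * fA g = 1 := by
  intro g hg
  have hg3 : g < 3 := hg
  have h : ∀ g < 3, codeEv gc [g, data.iv g] = H90.idN := by decide +kernel
  have := eq_one (h g hg3)
  simpa [ev] using this

theorem sub_pow : ev fA [0, 1] ^ 11 = 1 := by
  rw [← ev_expand]
  exact eq_one (by decide +kernel)

theorem order_dvd (q k : ℕ) [Fact q.Prime] (u : List ℕ) (hl : ∀ g ∈ u, g < 3)
    (h1 : ¬ key (codeEv gc (expand (u, q ^ k))) = key H90.idN)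
    (h2 : codeEv gc (expand (u, q ^ (k + 1))) = H90.idN) :
    q ^ (k + 1) ∣ Nat.card (Subgroup.closure (fA '' {g | g < data.ng})) :=
  dvd_card_of_mem (ev_mem fA u hl) (by rw [← ev_expand]; exact ne_one h1)
    (by rw [← ev_expand]; exact eq_one h2)

theorem generates : Subgroup.closure (fA '' {g | g < data.ng}) = ⊤ := by
  have := H36.M11Cent.isSimpleGroup_M11
  have : Finite ↥Cfsg.Spor.M11 := Nat.finite_of_card_ne_zero (by rw [H87.natCard_M11]; decide)
  have : Fact (Nat.Prime 2) := ⟨by norm_num⟩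
  have : Fact (Nat.Prime 3) := ⟨by norm_num⟩
  have : Fact (Nat.Prime 5) := ⟨by norm_num⟩
  have : Fact (Nat.Prime 11) := ⟨by norm_num⟩
  have h2 := order_dvd 2 2 ord8 (by decide) (by decide +kernel) (by decide +kernel)
  have h3 := order_dvd 3 0 ord3 (by decide) (by decide +kernel) (by decide +kernel)
  have h5 := order_dvd 5 0 ord5 (by decide) (by decide +kernel) (by decide +kernel)
  have h11 := order_dvd 11 0 ord11 (by decide) (by decide +kernel) (by decide +kernel)
  refine eq_top_of_small_index (p := 11) (by norm_num) ?_ (d := 2 ^ 3 * 3 ^ 1 * 5 ^ 1 * 11 ^ 1) ?_ ?_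
  · rw [H87.natCard_M11]; decide
  · exact Nat.Coprime.mul_dvd_of_dvd_of_dvd (by norm_num)
      (Nat.Coprime.mul_dvd_of_dvd_of_dvd (by norm_num)
        (Nat.Coprime.mul_dvd_of_dvd_of_dvd (by norm_num) h2 h3) h5) h11
  · rw [H87.natCard_M11]; decide

/-- a group with a nontrivial solution of the relators has a subgroup isomorphic to `Spor.M11` -/
theorem embeds {B : Type*} [Group B] [Finite B] (fB : ℕ → B)
    (hinv : ∀ g < data.ng, fB (data.iv g) * fB g = 1)
    (hrel : ∀ w ∈ data.words.take data.nrel, ev fB w = 1) (hu : ev fB [0, 1] ^ 11 = 1)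
    (hne : fB 0 ≠ 1) : ∃ K : Subgroup B, Cfsg.IsM11 K := by
  have := H36.M11Cent.isSimpleGroup_M11
  have : Finite ↥Cfsg.Spor.M11 := Nat.finite_of_card_ne_zero (by rw [H87.natCard_M11]; decide)
  obtain ⟨K, ⟨e⟩⟩ := exists_sub_iso fA fB tables 11 (by decide) (fun g hg => ⟨fA_inv g hg, hinv g hg⟩)
    (fun w hw => ⟨eq_one (rels w hw), hrel w hw⟩) (u := [0, 1]) (by decide +kernel) ⟨sub_pow, hu⟩
    (by rw [H87.natCard_M11]; rfl) generates (g₀ := 0) (by show 0 < 3; omega) hne
  exact ⟨K, e.symm.isSimpleGroup, by rw [← Nat.card_congr e.toEquiv, H87.natCard_M11]⟩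

end M11
end ONSub
end H93
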