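import Mathlib
import Cfsg.Prelude.Def_Sporadic
import Cfsg.Agent.H93.ONOrder
import Cfsg.Agent.H93.ONSub.J1
import Cfsg.Agent.H93.ONSub.M11

/-!
The presented O'Nan group as a group of permutations of 122760 points, and two of its simple subgroups.
-/

set_option autoImplicit false
set_option maxRecDepth 100000

namespace H93
namespace ONSub

open CosetI

/-- substitute the words of two generators for the letters -/
def subLetters (b bi : List ℕ) : ℕ → List ℕ
  | 0 => [0]
  | 1 => b
  | _ => bi

/-- a word fixes the base of the chain -/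
noncomputable def fixBase (w : List ℕ) : Bool :=
  w.all (fun g => Nat.blt g ON.Tab.data.ng) &&
    (chainPts [0] ON.Chain.levels).all fun p => walk ON.Tab.data.T w p fun e => Nat.beq e p

theorem eq_one_of_fixBase {w : List ℕ} (h : fixBase w = true) : ev ON.gen w = 1 := by
  have := ON.finite_ON
  simp only [fixBase, Bool.and_eq_true, List.all_eq_true, Data.blt_iff, walk_eq, Nat.beq_eq] at h
  refine ON.model.eq_one_of_fix_base ON.Chain.ok ?_ h.1 h.2
  rw [ON.card_ON_and_core.1, ON.Chain.prod_eq]
  rfl

theorem act_injective : Function.Injective ON.model.act := by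
  rw [injective_iff_map_eq_one]
  intro a ha
  have h1 : a ∈ fixSub ON.model.act [0] := fun c _ => by rw [ha]; rfl
  rw [ON.model.fixSub_zero] at h1
  have h2 : a ∈ ON.H.normalCore := fun b => by
    have h3 : b * a * b⁻¹ ∈ fixSub ON.model.act [0] := fun c _ => by
      rw [map_mul, map_mul, map_inv, ha, mul_one, mul_inv_cancel]; rfl
    rwa [ON.model.fixSub_zero] at h3
  rwa [ON.card_ON_and_core.2, Subgroup.mem_bot] at h2

theorem gen_zero_ne : ev ON.gen [0] ≠ 1 := by
  intro h
  have h1 : ∀ c : Fin ON.Tab.data.n, pathEnd ON.Tab.data.T [0] c = c := fun c => by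
    rw [← ON.model.act_ev [0] (by decide) c, h, map_one]; rfl
  have h2 : (List.range 24).all (fun c => walk ON.Tab.data.T [0] c fun e => Nat.beq e c) = false := by
    decide +kernel
  rw [List.all_eq_false] at h2
  obtain ⟨c, hc, hne⟩ := h2
  refine hne ?_
  rw [walk_eq, Nat.beq_eq]
  exact h1 ⟨c, Nat.lt_trans (List.mem_range.1 hc) (show 24 < 122760 by omega)⟩

/-- the image in the presented group of a letter of the subgroup -/
noncomputable def fB (b bi : List ℕ) (k : ℕ) : Cfsg.Spor.ON := ev ON.gen (subLetters b bi k)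

theorem checks_J1 :
    ((J1.data.words.take J1.data.nrel ++ (List.range 3).map (fun g => [g, J1.data.iv g]) ++
      [expand ([0, 1], 7)]).all fun w => fixBase (w.flatMap (subLetters J1.wordB J1.wordBi))) = true := by
  decide +kernel

theorem checks_M11 :
    ((M11.data.words.take M11.data.nrel ++ (List.range 3).map (fun g => [g, M11.data.iv g]) ++
      [expand ([0, 1], 11)]).all fun w => fixBase (w.flatMap (subLetters M11.wordB M11.wordBi))) = true := by
  decide +kernel

theorem hyps {D : Data} (hng : D.ng = 3) {b bi : List ℕ} {m : ℕ}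
    (h : ((D.words.take D.nrel ++ (List.range 3).map (fun g => [g, D.iv g]) ++
      [expand ([0, 1], m)]).all fun w => fixBase (w.flatMap (subLetters b bi))) = true) :
    (∀ g < D.ng, fB b bi (D.iv g) * fB b bi g = 1) ∧
    (∀ w ∈ D.words.take D.nrel, ev (fB b bi) w = 1) ∧ ev (fB b bi) [0, 1] ^ m = 1 ∧ fB b bi 0 ≠ 1 := by
  have key : ∀ w ∈ D.words.take D.nrel ++ (List.range 3).map (fun g => [g, D.iv g]) ++
      [expand ([0, 1], m)], ev (fB b bi) w = 1 := fun w hw =>
    (ev_subst _ ON.gen w).trans (eq_one_of_fixBase (List.all_eq_true.1 h w hw))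
  refine ⟨fun g hg => ?_, fun w hw => key w (by simp [hw]), ?_, gen_zero_ne⟩
  · have := key [g, D.iv g] (List.mem_append_left _ (List.mem_append_right _
      (List.mem_map.2 ⟨g, List.mem_range.2 (hng ▸ hg), rfl⟩)))
    simpa [ev] using this
  · rw [← ev_expand]
    exact key _ (List.mem_append_right _ (by simp))

theorem exists_J1 : ∃ K : Subgroup Cfsg.Spor.ON, Cfsg.IsJ1 K := by
  have := ON.finite_ON
  obtain ⟨h1, h2, h3, h4⟩ := hyps (D := J1.data) rfl checks_J1
  exact J1.embeds _ h1 h2 h3 h4

theorem exists_M11 : ∃ K : Subgroup Cfsg.Spor.ON, Cfsg.IsM11 K := by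
  have := ON.finite_ON
  obtain ⟨h1, h2, h3, h4⟩ := hyps (D := M11.data) rfl checks_M11
  exact M11.embeds _ h1 h2 h3 h4

/-- the permutation group -/
noncomputable def permGroup : Subgroup (Equiv.Perm (Fin ON.Tab.data.n)) := ON.model.act.range

/-- it is the presented group -/
noncomputable def permIso : Cfsg.Spor.ON ≃* permGroup := MonoidHom.ofInjective act_injective

theorem realization :
    Cfsg.IsON permGroup ∧ MulAction.IsPretransitive permGroup (Fin ON.Tab.data.n) ∧
      Nat.card (MulAction.stabilizer permGroup (⟨0, ON.model.tables.pos⟩ : Fin ON.Tab.data.n)) = 3753792 ∧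
      (∃ K : Subgroup permGroup, Cfsg.IsJ1 K) ∧ (∃ K : Subgroup permGroup, Cfsg.IsM11 K) := by
  have := ON.finite_ON
  obtain ⟨hs, hc⟩ := ON.isON
  refine ⟨⟨permIso.symm.isSimpleGroup, by rw [← Nat.card_congr permIso.toEquiv, hc]⟩, ?_, ?_, ?_, ?_⟩
  · refine ⟨fun x y => ?_⟩
    obtain ⟨a, ha⟩ := MulAction.exists_smul_eq Cfsg.Spor.ON
      (cosetOf ON.Tab.data ON.gen ON.H x) (cosetOf ON.Tab.data ON.gen ON.H y)
    exact ⟨permIso a, ON.model.bijective.injective ((ON.model.act_apply a x).trans ha)⟩
  · have hcard : Nat.card ON.H = 3753792 := by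
      have h := ON.H.index_mul_card
      rw [ON.index_H, hc] at h
      omega
    rw [← hcard]
    refine Nat.card_congr (Equiv.symm ?_)
    refine (Equiv.subtypeEquiv permIso.toEquiv fun a => ?_)
    have h0 : a ∈ ON.H ↔ a ∈ fixSub ON.model.act [0] := by rw [ON.model.fixSub_zero]
    refine h0.trans ⟨fun h => h ⟨0, ON.model.tables.pos⟩ (by simp), fun h c hc => ?_⟩
    obtain rfl : c = ⟨0, ON.model.tables.pos⟩ := Fin.ext (by simpa using hc)
    exact h
  · obtain ⟨K, hs', hc'⟩ := exists_J1
    let e : K ≃* (K.map permIso.toMonoidHom : Subgroup permGroup) :=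
      K.equivMapOfInjective _ permIso.injective
    exact ⟨_, e.symm.isSimpleGroup, by rw [← Nat.card_congr e.toEquiv, hc']⟩
  · obtain ⟨K, hs', hc'⟩ := exists_M11
    let e : K ≃* (K.map permIso.toMonoidHom : Subgroup permGroup) :=
      K.equivMapOfInjective _ permIso.injective
    exact ⟨_, e.symm.isSimpleGroup, by rw [← Nat.card_congr e.toEquiv, hc']⟩

end ONSub
end H93
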